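import Mathlib
import Cfsg.Prelude.Def_Classical
import Cfsg.Agent.Helper14.GLk.Defs
import Cfsg.Agent.Helper14.SLk.Defs

/-!
# S2481 (class number of `SU_n(q)`): shared definitions for the piece project

`σ : F →+* F` is the involution `x ↦ x^q` of the field `F` with `q^2` elements (abstractly: `IsInvol σ`).
`ct σ M`     : the conjugate transpose `(σ M)ᵀ`.
`IsU σ M`    : `M` is unitary, `ct σ M * M = 1` (isometry of the standard Hermitian form).
`U1 σ`       : the group of the `z` with `z * σ z = 1` (norm one units, cyclic of order `q + 1`).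
`GU σ n`     : the unitary matrices as a subgroup of `GL_n(F)`; `detU` its determinant, into `U1 σ`.
`tilde σ h`  : the dual polynomial `σ(h(0))⁻¹ * X^deg h * (σ h)(1/X)` (roots `σ(α)⁻¹`).
`TU σ r n`   : the tuples of `T F r n` (see `GLk.Defs`) all of whose entries are self dual.
`NU`, `AU`   : the numbers of self dual polynomials / tuples (`(1 + u)/(1 - q u)` generating function).
`DU`, `idxU` : the subgroup of `U1 σ` generated by the `m`-th powers, `m` a part of `t`; its index.
`HasType g t`: the `F[X]`-module of `g` is `⨁ F[X]/(p_i^{e_i})` and `t m = ∏_{e_i = m} p_i`.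
`Real σ n t` : the tuple `t` is realised by a unitary matrix whose centraliser has the expected
  determinants.
-/

set_option autoImplicit false

namespace Cfsg.Agent.S2481P

open Polynomial DirectSum Matrix Cfsg.Agent.S2478P Cfsg.Agent.S2479P

universe u

section basic

variable {F : Type*} [Field F]

/-- `σ` is a field automorphism of order two -/
structure IsInvol (σ : F →+* F) : Prop where
  sq : ∀ a, σ (σ a) = a
  ne : σ ≠ RingHom.id F

/-- the conjugate transpose -/
def ct (σ : F →+* F) {m n : Type*} (M : Matrix m n F) : Matrix n m F := (M.map σ)ᵀ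

theorem ct_apply (σ : F →+* F) {m n : Type*} (M : Matrix m n F) (i : n) (j : m) :
    ct σ M i j = σ (M j i) := rfl

theorem ct_mul (σ : F →+* F) {l m n : Type*} [Fintype m] (M : Matrix l m F) (N : Matrix m n F) :
    ct σ (M * N) = ct σ N * ct σ M := by
  unfold ct
  rw [Matrix.map_mul, Matrix.transpose_mul]

theorem ct_one (σ : F →+* F) {n : Type*} [DecidableEq n] : ct σ (1 : Matrix n n F) = 1 := by
  unfold ct
  rw [Matrix.map_one _ (map_zero σ) (map_one σ), Matrix.transpose_one]

theorem det_ct (σ : F →+* F) {n : Type*} [DecidableEq n] [Fintype n] (M : Matrix n n F) :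
    (ct σ M).det = σ M.det := by
  unfold ct
  rw [Matrix.det_transpose]
  exact (RingHom.map_det σ M).symm

/-- unitary matrices -/
def IsU (σ : F →+* F) {n : ℕ} (M : Matrix (Fin n) (Fin n) F) : Prop := ct σ M * M = 1

theorem IsU.mul {σ : F →+* F} {n : ℕ} {M N : Matrix (Fin n) (Fin n) F} (hM : IsU σ M)
    (hN : IsU σ N) : IsU σ (M * N) := by
  unfold IsU at *
  rw [ct_mul, Matrix.mul_assoc, ← Matrix.mul_assoc (ct σ M), hM, Matrix.one_mul, hN]

theorem IsU.one (σ : F →+* F) (n : ℕ) : IsU σ (1 : Matrix (Fin n) (Fin n) F) := by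
  unfold IsU
  rw [ct_one, Matrix.one_mul]

theorem IsU.mul_ct {σ : F →+* F} {n : ℕ} {M : Matrix (Fin n) (Fin n) F} (hM : IsU σ M) :
    M * ct σ M = 1 := mul_eq_one_comm.mp hM

theorem IsU.inv {σ : F →+* F} {n : ℕ} {M N : Matrix (Fin n) (Fin n) F} (hM : IsU σ M)
    (hMN : M * N = 1) : IsU σ N := by
  have h1 : N = ct σ M := by
    calc N = (ct σ M * M) * N := by rw [hM, Matrix.one_mul]
      _ = ct σ M := by rw [Matrix.mul_assoc, hMN, Matrix.mul_one]
  unfold IsU
  have h2 : ct σ N * ct σ M = 1 := by rw [← ct_mul, hMN, ct_one]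
  rw [← h1] at h2
  exact h2

theorem IsU.det_mul {σ : F →+* F} {n : ℕ} {M : Matrix (Fin n) (Fin n) F} (hM : IsU σ M) :
    M.det * σ M.det = 1 := by
  have := congrArg Matrix.det hM
  rw [Matrix.det_mul, det_ct, Matrix.det_one] at this
  rw [mul_comm]
  exact this

/-- the norm one units -/
def U1 (σ : F →+* F) : Subgroup Fˣ where
  carrier := {z | (z : F) * σ z = 1}
  mul_mem' {a b} ha hb := by
    change (a : F) * σ a = 1 at ha
    change (b : F) * σ b = 1 at hb
    change ((a * b : Fˣ) : F) * σ ((a * b : Fˣ) : F) = 1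
    rw [Units.val_mul, map_mul, mul_mul_mul_comm, ha, hb, mul_one]
  one_mem' := by
    change ((1 : Fˣ) : F) * σ ((1 : Fˣ) : F) = 1
    rw [Units.val_one, map_one, mul_one]
  inv_mem' {a} ha := by
    change (a : F) * σ a = 1 at ha
    change ((a⁻¹ : Fˣ) : F) * σ ((a⁻¹ : Fˣ) : F) = 1
    rw [Units.val_inv_eq_inv_val, map_inv₀, ← mul_inv, ha, inv_one]

theorem mem_U1 (σ : F →+* F) (z : Fˣ) : z ∈ U1 σ ↔ (z : F) * σ z = 1 := Iff.rfl

/-- the unitary group as a subgroup of `GL_n(F)` -/
def GU (σ : F →+* F) (n : ℕ) : Subgroup (Matrix.GeneralLinearGroup (Fin n) F) where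
  carrier := {g | IsU σ (g : Matrix (Fin n) (Fin n) F)}
  mul_mem' {a b} ha hb := by
    change IsU σ (a : Matrix (Fin n) (Fin n) F) at ha
    change IsU σ (b : Matrix (Fin n) (Fin n) F) at hb
    change IsU σ ((a * b : Matrix.GeneralLinearGroup (Fin n) F) : Matrix (Fin n) (Fin n) F)
    rw [Units.val_mul]
    exact ha.mul hb
  one_mem' := by
    change IsU σ ((1 : Matrix.GeneralLinearGroup (Fin n) F) : Matrix (Fin n) (Fin n) F)
    rw [Units.val_one]
    exact IsU.one σ n
  inv_mem' {a} ha := by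
    change IsU σ (a : Matrix (Fin n) (Fin n) F) at ha
    change IsU σ ((a⁻¹ : Matrix.GeneralLinearGroup (Fin n) F) : Matrix (Fin n) (Fin n) F)
    exact ha.inv (by rw [← Units.val_mul, mul_inv_cancel, Units.val_one])

theorem mem_GU (σ : F →+* F) (n : ℕ) (g : Matrix.GeneralLinearGroup (Fin n) F) :
    g ∈ GU σ n ↔ IsU σ (g : Matrix (Fin n) (Fin n) F) := Iff.rfl

/-- the determinant of the unitary group, with values in the norm one units -/
def detU (σ : F →+* F) (n : ℕ) : GU σ n →* U1 σ where
  toFun g := ⟨Matrix.GeneralLinearGroup.det (g : Matrix.GeneralLinearGroup (Fin n) F), by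
    rw [mem_U1]
    exact IsU.det_mul g.2⟩
  map_one' := by
    apply Subtype.ext
    simp
  map_mul' a b := by
    apply Subtype.ext
    simp

theorem detU_coe (σ : F →+* F) (n : ℕ) (g : GU σ n) :
    (((detU σ n g : U1 σ) : Fˣ) : F) =
      ((g : Matrix.GeneralLinearGroup (Fin n) F) : Matrix (Fin n) (Fin n) F).det := rfl

/-- the dual polynomial: roots `σ(α)⁻¹` -/
noncomputable def tilde (σ : F →+* F) (h : F[X]) : F[X] :=
  C (σ (h.coeff 0))⁻¹ * (h.map σ).reverse

/-- the self dual tuples -/
def TU (σ : F →+* F) (r n : ℕ) : Set (ℕ → F[X]) :=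
  {h | h ∈ T F r n ∧ ∀ m, tilde σ (h m) = h m}

/-- the number of self dual monic polynomials of degree `a` over the field with `q^2` elements -/
def NU (q a : ℕ) : ℕ := if a = 0 then 1 else q ^ a + q ^ (a - 1)

/-- the number of self dual tuples `(h_1, …, h_r)` with `∑ m * deg h_m = n` -/
def AU (q : ℕ) : ℕ → ℕ → ℕ
  | 0, n => if n = 0 then 1 else 0
  | (r + 1), n => ∑ a ∈ Finset.range (n / (r + 1) + 1), NU q a * AU q r (n - (r + 1) * a)

/-- the subgroup of `U1 σ` generated by the `m`-th powers, `m` a part of `t` -/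
def DU (σ : F →+* F) (t : ℕ → F[X]) : Subgroup (U1 σ) :=
  ⨆ m ∈ parts t, (powMonoidHom m : U1 σ →* U1 σ).range

/-- the index of `DU σ t` in `U1 σ` -/
noncomputable def idxU (σ : F →+* F) (t : ℕ → F[X]) : ℕ := (DU σ t).index

/-- the tuple with the single entry `h` at `m` -/
noncomputable def tsingle (m : ℕ) (h : F[X]) : ℕ → F[X] := fun k => if k = m then h else 1

end basic

/-- the `F[X]`-module of `g` is `⨁ F[X]/(p_i^{e_i})`, and `t m = ∏_{e_i = m} p_i` -/
def HasType {F : Type u} [Field F] {n : ℕ} (g : Matrix (Fin n) (Fin n) F) (t : ℕ → F[X]) : Prop :=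
  ∃ (ι : Type u) (_ : Fintype ι) (p : ι → F[X]) (e : ι → ℕ),
    (∀ i, (p i).Monic ∧ Irreducible (p i) ∧ p i ≠ X ∧ 1 ≤ e i) ∧
    ∑ i, e i * (p i).natDegree = n ∧
    Nonempty (Module.AEval' (Matrix.toLin' g) ≃ₗ[F[X]]
      ⨁ i, F[X] ⧸ Submodule.span F[X] {p i ^ e i}) ∧
    (fun m : ℕ => ∏ i with e i = m, p i) = t

/-- the dimension of the kernel of `r(g)^k` -/
noncomputable def kd {F : Type u} [Field F] {n : ℕ} (g : Matrix (Fin n) (Fin n) F) (r : F[X])
    (k : ℕ) : ℕ :=
  Module.finrank F (LinearMap.ker (Polynomial.aeval (Matrix.toLin' g) (r ^ k)))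

/-- the tuple `t` is realised by a unitary matrix `g` of size `n`, with characteristic polynomial
`∏ t_m^m`, such that every `m`-th power of a norm one unit, `m` a part of `t`, is the determinant of a
unitary matrix commuting with `g` -/
def Real {F : Type u} [Field F] (σ : F →+* F) (n : ℕ) (t : ℕ → F[X]) : Prop :=
  ∃ g : Matrix (Fin n) (Fin n) F, IsU σ g ∧ HasType g t ∧
    g.charpoly = ∏ m ∈ Finset.range (n + 1), t m ^ m ∧
    ∀ m ∈ parts t, ∀ z : F, z * σ z = 1 →
      ∃ c : Matrix (Fin n) (Fin n) F, IsU σ c ∧ c * g = g * c ∧ c.det = z ^ m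

/-- The equation lemmas that Lean writes on demand are cited here once, so that they live in this file
and not (as separate copies) in each file that unfolds one of the definitions above. -/
theorem eqns_realized : True := by
  have := @ct.eq_1.{0, 0, 0}
  have := @IsU.eq_1.{0}
  have := @tilde.eq_1.{0}
  have := @TU.eq_1.{0}
  have := @NU.eq_1
  have := @NU.eq_def
  have := @AU.eq_1
  have := @AU.eq_2
  have := @AU.eq_def
  have := @DU.eq_1.{0}
  have := @idxU.eq_1.{0}
  have := @tsingle.eq_1.{0}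
  have := @HasType.eq_1.{0}
  have := @kd.eq_1.{0}
  have := @Real.eq_1.{0}
  trivial

end Cfsg.Agent.S2481P
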