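import Mathlib
import Cfsg.Agent.Helper14.S2481.Defs

/-!
# S2481: definitions for the model chapter

`RealA σ n t`: the tuple `t` is realised by an isometry `g` of an abstract non-degenerate Hermitian space
`(V, B)` of dimension `n` (`B` semilinear in the first argument, as in S0755), with characteristic
polynomial `∏ t_m^m`, such that every `m`-th power of a norm one unit, `m` a part of `t`, is the
determinant of an isometry commuting with `g`.
-/

set_option autoImplicit false

namespace Cfsg.Agent.S2481P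

open Polynomial DirectSum Matrix Cfsg.Agent.S2478P Cfsg.Agent.S2479P

universe u

/-- abstract realisation of a tuple by an isometry of a Hermitian space -/
def RealA {F : Type u} [Field F] (σ : F →+* F) (n : ℕ) (t : ℕ → F[X]) : Prop :=
  ∃ (V : Type u) (_ : AddCommGroup V) (_ : Module F V) (_ : Module.Finite F V)
    (B : V →ₛₗ[σ] V →ₗ[F] F) (g : V →ₗ[F] V),
    B.IsSymm ∧ B.Nondegenerate ∧ Module.finrank F V = n ∧ (∀ v w, B (g v) (g w) = B v w) ∧
    (∃ (ι : Type u) (_ : Fintype ι) (p : ι → F[X]) (e : ι → ℕ),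
      (∀ i, (p i).Monic ∧ Irreducible (p i) ∧ p i ≠ X ∧ 1 ≤ e i) ∧
      ∑ i, e i * (p i).natDegree = n ∧
      Nonempty (Module.AEval' g ≃ₗ[F[X]] ⨁ i, F[X] ⧸ Submodule.span F[X] {p i ^ e i}) ∧
      (fun m : ℕ => ∏ i with e i = m, p i) = t) ∧
    g.charpoly = ∏ m ∈ Finset.range (n + 1), t m ^ m ∧
    ∀ m ∈ parts t, ∀ z : F, z * σ z = 1 →
      ∃ c : V →ₗ[F] V, (∀ v w, B (c v) (c w) = B v w) ∧ c ∘ₗ g = g ∘ₗ c ∧ LinearMap.det c = z ^ m

end Cfsg.Agent.S2481P
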