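import Mathlib
import Cfsg.Prelude.Def_LieClassical
import Cfsg.Agent.Helper14.S2481.Defs
import Cfsg.Agent.Helper28.GU

/-!
# S2481: the bridge between the frozen `Cfsg.GU n F q` and `GU σ n`
-/

set_option autoImplicit false

namespace Cfsg.Agent.S2481P

open Polynomial Matrix

variable {F : Type*} [Field F]

/-- the frozen unitary group is the group `GU σ n` of the matrices with `ct σ M * M = 1` -/
theorem GU_eq {σ : F →+* F} (n q : ℕ) (hσq : ∀ x, σ x = x ^ q) : Cfsg.GU n F q = GU σ n := by
  ext g
  rw [Cfsg.Agent.Helper28.GUlib.mem_GU_iff σ hσq g, mem_GU]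
  unfold IsU ct
  constructor
  · intro h
    have := congrArg Matrix.transpose h
    rw [Matrix.transpose_mul, Matrix.transpose_transpose, Matrix.transpose_one] at this
    exact this
  · intro h
    have := congrArg Matrix.transpose h
    rw [Matrix.transpose_mul, Matrix.transpose_transpose, Matrix.transpose_one] at this
    exact this

theorem mem_GU_frozen_iff {σ : F →+* F} (n q : ℕ) (hσq : ∀ x, σ x = x ^ q)
    (g : Matrix.GeneralLinearGroup (Fin n) F) :
    g ∈ Cfsg.GU n F q ↔ IsU σ (g : Matrix (Fin n) (Fin n) F) := by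
  rw [GU_eq n q hσq]
  exact mem_GU σ n g

end Cfsg.Agent.S2481P
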