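import Cfsg.Agent.Helper14.S2481.Defs
import Cfsg.Agent.Helper23.S2481WMAT
import Cfsg.Agent.Helper14.GLk.MOD
import Cfsg.Agent.Helper14.GLk.CONJ
import Cfsg.Agent.Helper15.S2478FACT
import Cfsg.Agent.Helper15.S2478HPROP

/-!
# S2481: conjugacy in the unitary group is determined by the type

Two unitary matrices with the same type (the polynomials `t m`) are conjugate in `GL` by the
rational canonical form, hence conjugate in `GU` by Wall's theorem (`wall`, chapter W).
-/

set_option autoImplicit false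

namespace Cfsg.Agent.S2481P

open Polynomial DirectSum Matrix Cfsg.Agent.S2478P Cfsg.Agent.S2479P

universe u

/-- two unitary matrices of the same type are conjugate in the unitary group -/
theorem isConj_GU {F : Type u} [Field F] [Fintype F] {σ : F →+* F} (hσ : IsInvol σ) {n : ℕ}
    (x y : S2481P.GU σ n) {t : ℕ → F[X]}
    (hx : HasType ((x : Matrix.GeneralLinearGroup (Fin n) F) : Matrix (Fin n) (Fin n) F) t)
    (hy : HasType ((y : Matrix.GeneralLinearGroup (Fin n) F) : Matrix (Fin n) (Fin n) F) t) :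
    IsConj x y := by
  obtain ⟨ι, fι, p, e, hp, -, Φ, hpt⟩ := hx
  obtain ⟨ι', fι', p', e', hp', -, Φ', hpt'⟩ := hy
  have hcnt := cnt_eq_of_prod_eq p e p' e' (fun i => ⟨(hp i).1, (hp i).2.1⟩)
    (fun i => ⟨(hp' i).1, (hp' i).2.1⟩) (fun m => by
      have h1 := congrFun hpt m
      have h2 := congrFun hpt' m
      exact h1.trans h2.symm)
  have hc := isConj_of_decomp n (x : Matrix.GeneralLinearGroup (Fin n) F)
    (y : Matrix.GeneralLinearGroup (Fin n) F) p e p' e' Φ Φ' hcnt
  rw [isConj_iff] at hc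
  obtain ⟨c, hc⟩ := hc
  have hc' : (c : Matrix (Fin n) (Fin n) F) *
      ((x : Matrix.GeneralLinearGroup (Fin n) F) : Matrix (Fin n) (Fin n) F) =
      ((y : Matrix.GeneralLinearGroup (Fin n) F) : Matrix (Fin n) (Fin n) F) *
        (c : Matrix (Fin n) (Fin n) F) := by
    have h1 : c * (x : Matrix.GeneralLinearGroup (Fin n) F) =
        (y : Matrix.GeneralLinearGroup (Fin n) F) * c := by
      rw [← hc]; group
    have h2 := congrArg (fun z : Matrix.GeneralLinearGroup (Fin n) F =>
      (z : Matrix (Fin n) (Fin n) F)) h1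
    simpa using h2
  have hdet : IsUnit (c : Matrix (Fin n) (Fin n) F).det :=
    (Matrix.isUnit_iff_isUnit_det _).1 c.isUnit
  obtain ⟨u, hu, huc⟩ := wall hσ _ _ _ x.2 y.2 hdet hc'
  have hudet : IsUnit u.det := by
    have := hu.det_mul
    exact IsUnit.of_mul_eq_one _ this
  let U : Matrix.GeneralLinearGroup (Fin n) F := Matrix.GeneralLinearGroup.mkOfDetNeZero u
    hudet.ne_zero
  have hU : U ∈ S2481P.GU σ n := hu
  rw [isConj_iff]
  refine ⟨⟨U, hU⟩, ?_⟩
  apply Subtype.ext
  apply Units.ext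
  show u * ((x : Matrix.GeneralLinearGroup (Fin n) F) : Matrix (Fin n) (Fin n) F) *
    ((U⁻¹ : Matrix.GeneralLinearGroup (Fin n) F) : Matrix (Fin n) (Fin n) F) = _
  rw [huc, Matrix.mul_assoc]
  have : u * ((U⁻¹ : Matrix.GeneralLinearGroup (Fin n) F) : Matrix (Fin n) (Fin n) F) = 1 := by
    have h1 : (U : Matrix (Fin n) (Fin n) F) = u := rfl
    rw [← h1, ← Units.val_mul, mul_inv_cancel, Units.val_one]
  rw [this, Matrix.mul_one]

end Cfsg.Agent.S2481P
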