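import Cfsg.Agent.Helper14.S2481.Bridge
import Cfsg.Agent.Helper3.S2481COUNTSD
import Cfsg.Agent.Helper17.S2481RREAL

/-!
# S2481: the lower bound `q ^ (n - 1) ≤ k(SU_n(q))`

Every self-dual monic polynomial of degree `n` with constant coefficient `(-1) ^ n` is the
characteristic polynomial of an element of `SU_n(q)` (chapter R), and there are `q ^ (n - 1)` of
them (`card_sd1`).
-/

set_option autoImplicit false

namespace Cfsg.Agent.S2481P

open Polynomial DirectSum Matrix Cfsg.Agent.S2478P Cfsg.Agent.S2479P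
open Cfsg.Agent.Helper2.Herm (cj cj_apply cj_cj)

universe u

/-- lower bound (route B: helper17's realisations) -/
theorem lower_bound_SU {F : Type u} [Field F] [Fintype F] (q : ℕ)
    (hF : Fintype.card F = q ^ 2) (hσ : IsInvol (cj hF)) (n : ℕ) (hn : 1 ≤ n) :
    q ^ (n - 1) ≤ Nat.card (ConjClasses (detU (cj hF) n).ker) := by
  classical
  have hσq : ∀ x, cj hF x = x ^ q := cj_apply hF
  have hGU : Cfsg.GU n F q = S2481P.GU (cj hF) n := GU_eq n q hσq
  rw [← card_sd1 hσ q hF n hn]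
  have hreal : ∀ f : {f : F[X] // f.Monic ∧ f.natDegree = n ∧ tilde (cj hF) f = f ∧
      f.coeff 0 = (-1) ^ n}, ∃ g : (detU (cj hF) n).ker,
      (((g : S2481P.GU (cj hF) n) : Matrix.GeneralLinearGroup (Fin n) F) :
        Matrix (Fin n) (Fin n) F).charpoly = f.1 := by
    rintro ⟨f, hfm, hfd, hft, hf0⟩
    obtain ⟨g0, hchar'⟩ := exists_GU_charpoly (cj hF) hσq hF n f hfm hfd hft
    have hg0 : (g0 : Matrix.GeneralLinearGroup (Fin n) F) ∈ S2481P.GU (cj hF) n := by
      rw [← hGU]; exact g0.2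
    have hdet : ((g0 : Matrix.GeneralLinearGroup (Fin n) F) : Matrix (Fin n) (Fin n) F).det = 1 := by
      rw [Matrix.det_eq_sign_charpoly_coeff, hchar', hf0, Fintype.card_fin, ← mul_pow]
      simp
    let G0 : S2481P.GU (cj hF) n := ⟨(g0 : Matrix.GeneralLinearGroup (Fin n) F), hg0⟩
    have hker : G0 ∈ (detU (cj hF) n).ker := by
      rw [MonoidHom.mem_ker]
      apply Subtype.ext
      apply Units.ext
      exact hdet
    exact ⟨⟨G0, hker⟩, hchar'⟩
  choose gf hgf using hreal
  refine Nat.card_le_card_of_injective (fun f => ConjClasses.mk (gf f)) ?_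
  intro f f' hff
  replace hff : ConjClasses.mk (gf f) = ConjClasses.mk (gf f') := hff
  rw [ConjClasses.mk_eq_mk_iff_isConj, isConj_iff] at hff
  obtain ⟨c, hc⟩ := hff
  apply Subtype.ext
  rw [← hgf f, ← hgf f']
  have h1 := congrArg (fun z : (detU (cj hF) n).ker =>
    (((z : S2481P.GU (cj hF) n) : Matrix.GeneralLinearGroup (Fin n) F) : Matrix (Fin n) (Fin n) F)) hc
  replace h1 : ((((c * gf f * c⁻¹ : (detU (cj hF) n).ker) : S2481P.GU (cj hF) n) :
      Matrix.GeneralLinearGroup (Fin n) F) : Matrix (Fin n) (Fin n) F) =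
    ((((gf f' : (detU (cj hF) n).ker) : S2481P.GU (cj hF) n) :
      Matrix.GeneralLinearGroup (Fin n) F) : Matrix (Fin n) (Fin n) F) := h1
  rw [← h1]
  have h2 : ((((c * gf f * c⁻¹ : (detU (cj hF) n).ker) : S2481P.GU (cj hF) n) :
      Matrix.GeneralLinearGroup (Fin n) F) : Matrix (Fin n) (Fin n) F) =
      (((c : S2481P.GU (cj hF) n) : Matrix.GeneralLinearGroup (Fin n) F) : Matrix (Fin n) (Fin n) F) *
      ((((gf f : (detU (cj hF) n).ker) : S2481P.GU (cj hF) n) : Matrix.GeneralLinearGroup (Fin n) F) :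
        Matrix (Fin n) (Fin n) F) *
      (((c : S2481P.GU (cj hF) n) : Matrix.GeneralLinearGroup (Fin n) F) : Matrix (Fin n) (Fin n) F)⁻¹ := by
    rw [← Matrix.coe_units_inv]
    rfl
  rw [h2]
  exact (Matrix.charpoly_units_conj ((c : S2481P.GU (cj hF) n) : Matrix.GeneralLinearGroup (Fin n) F) _).symm

end Cfsg.Agent.S2481P
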