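import Cfsg.Agent.Helper14.S2481.Conj
import Cfsg.Agent.Helper14.S2481.Bridge
import Cfsg.Agent.Helper7.S2481DECOMP
import Cfsg.Agent.Helper7.S2481SDTUPLE
import Cfsg.Agent.Helper7.S2481CENT
import Cfsg.Agent.Helper15.S2481COUNTTU
import Cfsg.Agent.Helper15.S2481SUMBOUNDU
import Cfsg.Agent.Helper25.S2481ACTIONU
import Cfsg.Agent.Helper14.SLk.CENT
import Cfsg.Agent.Helper28.S2479SPLIT

/-!
# S2481: the upper bound for `k(SU_n(q))`

`(q + 1) * k(SU_n(q)) ≤ A_U(q, n) + ∑_{d | gcd(n, q + 1), d ≥ 2} (d ^ 2 - 1) * A_U(q, n / d)`: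
every element of `GU` has a Hermitian primary decomposition (chapter H), its type is a tuple of
self-dual polynomials, equal types are conjugate in `GU` (chapter W), the centraliser of an element
of type `t` has determinant image containing `DU t` (chapter H, `CENT`), and the class-splitting
lemma plus the counting chapter (C) finish.
-/

set_option autoImplicit false

namespace Cfsg.Agent.S2481P

open Polynomial DirectSum Matrix Cfsg.Agent.S2478P Cfsg.Agent.S2479P
open Cfsg.Agent.Helper2.Herm (cj cj_apply cj_cj)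

universe u

open Classical in
/-- upper bound (route B: helper7's Hermitian decomposition) -/
theorem upper_bound_SU {F : Type u} [Field F] [Fintype F] (q : ℕ)
    (hF : Fintype.card F = q ^ 2) (hσ : IsInvol (cj hF)) (n : ℕ) (hn : 1 ≤ n) :
    (q + 1) * Nat.card (ConjClasses (detU (cj hF) n).ker) ≤ AU q n n +
      ∑ d ∈ (Nat.gcd n (q + 1)).divisors.filter (fun d => 2 ≤ d),
        (d ^ 2 - 1) * AU q (n / d) (n / d) := by
  have hσq : ∀ x, cj hF x = x ^ q := cj_apply hF
  have hGU : Cfsg.GU n F q = S2481P.GU (cj hF) n := GU_eq n q hσq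
  have hdec := fun g : S2481P.GU (cj hF) n =>
    DECOMP.exists_herm_decomp hF (g : Matrix.GeneralLinearGroup (Fin n) F) (by rw [hGU]; exact g.2)
  choose ι fι p e dual v htd hfr hsum hΦ using hdec
  let τ : S2481P.GU (cj hF) n → (ℕ → F[X]) := fun g m =>
    @Finset.prod _ _ _ (@Finset.filter _ (fun i => e g i = m) _ (@Finset.univ _ (fι g))) (p g)
  have hp : ∀ g i, (p g i).Monic ∧ Irreducible (p g i) ∧ p g i ≠ X ∧ 1 ≤ e g i := fun g i =>
    ⟨(htd g).monic i, (htd g).irred i, (htd g).ne_X i, (htd g).one_le i⟩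
  have hτ : ∀ g : S2481P.GU (cj hF) n,
      HasType ((g : Matrix.GeneralLinearGroup (Fin n) F) : Matrix (Fin n) (Fin n) F) (τ g) :=
    fun g => ⟨ι g, fι g, p g, e g, hp g, hsum g, hΦ g, rfl⟩
  have hτT : ∀ g, τ g ∈ TU (cj hF) n n := by
    intro g
    refine ⟨@prod_mem_T F _ (ι g) (fι g) (p g) (e g) n (hp g) (hsum g), fun m => ?_⟩
    exact @SDTUPLE.prod_selfdual F _ (cj hF) (cj_cj hF) (ι g) (fι g) (p g) (e g) (dual g) (htd g) m
  have hT : (TU (cj hF) n n).Finite := (card_TU hσ q hF hσq n n).1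
  let φ : S2481P.GU (cj hF) n →* U1 (cj hF) := detU (cj hF) n
  let J : Finset (ℕ → F[X]) := hT.toFinset.filter (fun t => dett n t = 1)
  have hJ : ∀ g, φ g = 1 → τ g ∈ J := by
    intro g hg
    rw [Finset.mem_filter, Set.Finite.mem_toFinset]
    refine ⟨hτT g, ?_⟩
    show dett n (τ g) = 1
    rw [← @det_eq_dett F _ n (g : Matrix.GeneralLinearGroup (Fin n) F) (ι g) (fι g) (p g) (e g)
      (fun i => ⟨(hp g i).1, (hp g i).2.2.2⟩) (hsum g) (hΦ g)]
    have h1 := congrArg (fun z : U1 (cj hF) => ((z : Fˣ) : F)) hg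
    exact h1
  have h1 : ∀ x y : S2481P.GU (cj hF) n, φ x = 1 → φ y = 1 → τ x = τ y → IsConj x y := by
    intro x y _ _ hxy
    exact isConj_GU hσ x y (hτ x) (hxy ▸ hτ y)
  have h2 : ∀ g : S2481P.GU (cj hF) n, φ g = 1 → ∀ a ∈ DU (cj hF) (τ g), ∃ z, Commute z g ∧ φ z = a := by
    intro g _ a ha
    have hle : DU (cj hF) (τ g) ≤ (Subgroup.centralizer ({g} : Set (S2481P.GU (cj hF) n))).map φ := by
      unfold DU
      refine iSup₂_le (fun m hm => ?_)
      rintro _ ⟨ζ, rfl⟩
      -- there is a block with `e i0 = m`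
      have hex : ∃ i0, e g i0 = m := by
        by_contra hno
        push Not at hno
        have hempty : @Finset.filter _ (fun i => e g i = m) _ (@Finset.univ _ (fι g)) = ∅ := by
          apply Finset.eq_empty_of_forall_notMem
          intro i hi
          exact hno i (Finset.mem_filter.1 hi).2
        have : τ g m = 1 := by
          show @Finset.prod _ _ _ (@Finset.filter _ (fun i => e g i = m) _
            (@Finset.univ _ (fι g))) (p g) = 1
          rw [hempty, Finset.prod_empty]
        have hm' : 1 ≤ (τ g m).natDegree := hm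
        rw [this, natDegree_one] at hm'
        exact absurd hm' (by norm_num)
      obtain ⟨i0, hi0⟩ := hex
      have hζ : ((ζ : U1 (cj hF)) : Fˣ) ^ (q + 1) = 1 := by
        have h := ζ.2
        rw [mem_U1, hσq] at h
        apply Units.ext
        rw [Units.val_pow_eq_pow_val, Units.val_one, pow_succ, mul_comm]
        exact h
      obtain ⟨z, hzU, hzg, hzdet⟩ := @CENT.exists_centralizing_unitary F _ _ n q hF
        (g : Matrix.GeneralLinearGroup (Fin n) F) (by rw [hGU]; exact g.2) (ι g) (fι g) (p g) (e g)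
        (dual g) (v g) (htd g) (hfr g) i0 ((ζ : U1 (cj hF)) : Fˣ) hζ
      rw [hGU] at hzU
      refine ⟨⟨z, hzU⟩, ?_, ?_⟩
      · rw [SetLike.mem_coe, Subgroup.mem_centralizer_iff]
        intro h hh
        rw [Set.mem_singleton_iff] at hh
        subst hh
        apply Subtype.ext
        exact hzg.eq.symm
      · apply Subtype.ext
        show Matrix.GeneralLinearGroup.det z = _
        rw [hzdet, hi0]
        rfl
    obtain ⟨z, hz, hza⟩ := hle ha
    refine ⟨z, ?_, hza⟩
    rw [SetLike.mem_coe, Subgroup.mem_centralizer_iff] at hz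
    exact (hz g rfl).symm
  have hsplit := card_conjClasses_ker_le φ τ (DU (cj hF)) J h1 h2 hJ
  have hact := weighted_count_U hσ q hF hσq n hT
  have hsum2 := sum_idxU_sq_le hσ q hF hσq n hn hT
  calc (q + 1) * Nat.card (ConjClasses φ.ker)
      ≤ (q + 1) * ∑ t ∈ J, idxU (cj hF) t := Nat.mul_le_mul_left _ hsplit
    _ ≤ ∑ t ∈ hT.toFinset, idxU (cj hF) t ^ 2 := hact
    _ ≤ _ := hsum2

end Cfsg.Agent.S2481P
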